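import Mathlib
import Groth.Agent.Lib.Helper19.StPtsOpen
import Groth.Agent.Lib.Helper15.AlgSpUniv
import Groth.Agent.Lib.Helper15.AlgSpProper2

/-!
# The image of a closed immersion of stacks is closed on points (helper19)
-/

set_option autoImplicit false
set_option backward.isDefEq.respectTransparency false

universe u

open CategoryTheory CategoryTheory.Limits Functor AlgebraicGeometry Opposite

namespace Groth.Agent.Helper19.EndTriv

open FibCat AlgSt Stk Groth.Agent.Helper19.FibLib Groth.Agent.Helper19.StLib Groth.Agent.Helper19.PshLib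
  Groth.Agent.Helper19.PshSt Groth.Agent.Helper19.ChartOver Groth.Agent.Helper19.StPts

variable {S : Scheme.{u}}

theorem isClosedImmersion_le_universallyClosed :
    (@IsClosedImmersion : MorphismProperty Scheme.{u}) ≤ @UniversallyClosed := fun _ _ g hg => by
  haveI : IsClosedImmersion g := hg
  infer_instance

/-- the image of a closed immersion is closed. -/
theorem isClosed_range_map_of_isClosedImm {𝒲 𝒳 : AlgSt.Cat S} (h𝒲 : IsFibGrpd 𝒲.p)
    (h𝒳 : IsFibGrpd 𝒳.p) (g : 𝒲 ⥤ᵇ 𝒳) (hg : IsClosedImm g) :
    IsClosed (Set.range (Points.map g)) := by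
  rw [← isOpen_compl_iff, Points.isOpen_iff]
  intro T z hz
  rw [Set.preimage_compl, isOpen_compl_iff]
  have e : Points.ofChart z ⁻¹' Set.range (Points.map g) =
      chartPt T ⁻¹' Set.range (Points.map (fpFst z g)) := by
    have h1 := preimage_image_map h𝒲 h𝒳 (isFibGrpd_overCat T) g z Set.univ
    rw [Set.image_univ, Set.preimage_univ, Set.image_univ] at h1
    rw [← h1]
    ext t
    simp only [Set.mem_preimage]
    rw [ofChart_eq]
  rw [e]
  refine IsClosed.preimage (chartPt T).continuous ?_
  obtain ⟨B, eB, heB, hb⟩ := hg T z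
  have huc : AlgSp.IsUnivClosedMor (spMapOfOver (BasedFunctor.comp eB (fpFst z g))) :=
    Groth.Agent.Helper15.isUnivClosedMor_of_repWith _
      (Groth.Agent.Helper15.repWith_mono isClosedImmersion_le_universallyClosed hb)
  have hcl : IsClosedMap (AlgSp.Points.map (spMapOfOver (BasedFunctor.comp eB (fpFst z g)))) :=
    Groth.Agent.Helper15.isClosedMor_of_isUnivClosedMor (AlgSp.IsAlgSpace.yon_obj T) _ huc
  have h2 : IsClosedMap (Points.map (fpFst z g)) :=
    (isClosedMap_conj_iff (kappa B eB heB) (spPt T) (Points.map (fpFst z g)) _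
      (map_kappa B eB heB (fpFst z g))).2 hcl
  exact h2.isClosed_range

end Groth.Agent.Helper19.EndTriv
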