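import Mathlib
import Groth.Agent.Lib.Helper19.EndTriv.Closed
import Groth.Agent.Lib.Helper19.InertiaLib
import Groth.Agent.Lib.Helper19.GerbMono.Main
import Groth.Agent.Lib.Helper19.QcPts2
import Groth.Agent.Lib.Helper19.ProdCover
import Groth.Agent.Lib.Helper19.DiagCover
import Groth.Agent.Lib.Helper15.AlgSpUnram
import Groth.Agent.Lib.Helper15.AlgSpGlue
import Groth.Agent.S12774
import Groth.Agent.S12787
import Groth.Agent.Lib.Helper19.StackLib

/-!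
# 2-endomorphisms of a functor to a Deligne–Mumford stack with separated diagonal which are trivial on a
dense open are trivial (helper19)
-/

set_option autoImplicit false
set_option backward.isDefEq.respectTransparency false

universe u

open CategoryTheory CategoryTheory.Limits Functor AlgebraicGeometry Opposite

namespace Groth.Agent.Helper19.EndTriv

open FibCat AlgSt Stk Groth.Agent.Helper19.FibLib Groth.Agent.Helper19.StLib Groth.Agent.Helper19.PshLib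
  Groth.Agent.Helper19.PshSt Groth.Agent.Helper19.ChartOver Groth.Agent.Helper19.StPts
  Groth.Agent.Helper19.CancelAlg Groth.Agent.Helper19.AlgP Groth.Agent.Helper19.DescCover
  Groth.Agent.Helper19.SpProps Groth.Agent.Helper19.CancelLib Groth.Agent.Helper19.DiagRep
  Groth.Agent.Helper19.InfLib Groth.Agent.Helper19.DiagAlgSp

variable {S : Scheme.{u}}

section functorA

variable {𝒳 𝒴 : AlgSt.Cat S} (h𝒴 : IsFibGrpd 𝒴.p) (F : 𝒳 ⥤ᵇ 𝒴) (α : F ⟶ F)

include h𝒴 in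
theorem isIso_app (x : 𝒳.obj) : IsIso (α.toNatTrans.app x) := by
  haveI := α.isHomLift' x
  exact isIso_of_isHomLift h𝒴 (𝟙 (𝒳.p.obj x)) (α.toNatTrans.app x)

theorem p_map_app (x : 𝒳.obj) : 𝒴.p.map (α.toNatTrans.app x) = 𝟙 (𝒴.p.obj (F.obj x)) := by
  haveI := α.isHomLift' x
  have := IsHomLift.fac' 𝒴.p (𝟙 (𝒳.p.obj x)) (α.toNatTrans.app x)
  simpa using this

/-- the automorphism `α_x`. -/
noncomputable def autOf (x : 𝒳.obj) : F.obj x ≅ F.obj x := by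
  haveI := isIso_app h𝒴 F α x
  exact asIso (α.toNatTrans.app x)

theorem autOf_hom (x : 𝒳.obj) : (autOf h𝒴 F α x).hom = α.toNatTrans.app x := rfl

/-- the functor `x ↦ (F x, α_x)` to the inertia of `𝒴`. -/
noncomputable def endFunctor : 𝒳 ⥤ᵇ inertia (toSelf 𝒴) where
  toFunctor :=
    { obj := fun x =>
        { pt := F.obj x
          aut := autOf h𝒴 F α x
          map_aut := by
            rw [autOf_hom]
            exact p_map_app F α x }
      map := fun {x y} f => ⟨F.map f, (α.toNatTrans.naturality f).symm⟩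
      map_id := fun x => InertiaObj.hom_ext (F.map_id x)
      map_comp := fun f g => InertiaObj.hom_ext (F.map_comp f g) }
  w := F.w

@[simp] theorem endFunctor_obj_pt (x : 𝒳.obj) : ((endFunctor h𝒴 F α).obj x).pt = F.obj x := rfl

theorem endFunctor_obj_aut_hom (x : 𝒳.obj) :
    ((endFunctor h𝒴 F α).obj x).aut.hom = α.toNatTrans.app x := rfl

/-- objects of the base change of the neutral section have trivial `α`. -/
theorem app_eq_id_of_obj
    (o : (fp (endFunctor h𝒴 F α) (inertiaNeutral (toSelf 𝒴))).obj) :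
    α.toNatTrans.app o.obj.fst = 𝟙 _ := by
  have hc := o.obj.iso.hom.comm
  have h1 : o.obj.iso.hom.hom ≫ o.obj.iso.inv.hom = 𝟙 (F.obj o.obj.fst) := by
    rw [← InertiaObj.comp_hom, Iso.hom_inv_id]
    rfl
  have h2 : ((inertiaNeutral (toSelf 𝒴)).obj o.obj.snd).aut.hom = 𝟙 _ := rfl
  rw [h2, Category.comp_id, endFunctor_obj_aut_hom] at hc
  calc α.toNatTrans.app o.obj.fst
      = α.toNatTrans.app o.obj.fst ≫ o.obj.iso.hom.hom ≫ o.obj.iso.inv.hom := by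
        rw [h1, Category.comp_id]
    _ = 𝟙 _ := by rw [← Category.assoc, hc, h1]

theorem app_eq_id_of_iso {x x' : 𝒳.obj} (ψ : x ≅ x') (h : α.toNatTrans.app x = 𝟙 _) :
    α.toNatTrans.app x' = 𝟙 _ := by
  have hn := α.toNatTrans.naturality ψ.hom
  rw [h, Category.id_comp] at hn
  haveI : IsIso (F.map ψ.hom) := inferInstanceAs (IsIso (F.toFunctor.map ψ.hom))
  rw [← cancel_epi (F.map ψ.hom)]
  rw [Category.comp_id]
  exact hn

end functorA

section main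

variable {𝒳 𝒴 𝒰 𝒱 : AlgSt.Cat S}

/-- on the open `𝒰`, mapped into the algebraic space `𝒱`, the endomorphism is trivial. -/
theorem app_eq_id_on_open (h𝒴 : IsFibGrpd 𝒴.p) (h𝒱 : IsFibGrpd 𝒱.p) (h𝒱r : RepByAlgSp 𝒱)
    (F : 𝒳 ⥤ᵇ 𝒴) (i : 𝒰 ⥤ᵇ 𝒳) (j : 𝒱 ⥤ᵇ 𝒴) (hj : IsOpenImm j) (G : 𝒰 ⥤ᵇ 𝒱)
    (e : BasedFunctor.comp G j ≅ BasedFunctor.comp i F) (α : F ⟶ F) (u : 𝒰.obj) :
    α.toNatTrans.app (i.obj u) = 𝟙 _ := by
  have hmono : IsMono j := repByAlgSpWith_mono (fun A T a h => by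
    haveI := Groth.Agent.Helper15.mono_of_repWith_isOpenImmersion a h
    exact MorphismProperty.monomorphisms.infer_property a) hj
  obtain ⟨hfull, hfaith⟩ := Groth.Agent.S12774.result h𝒱 h𝒴 j hmono
  haveI := hfull
  haveI := hfaith
  have hv : 𝒱.p.obj (G.obj u) = 𝒰.p.obj u := G.w_obj u
  have he1 : 𝒴.p.IsHomLift (𝟙 (𝒰.p.obj u)) (e.hom.toNatTrans.app u) := e.hom.isHomLift' u
  have he2 : 𝒴.p.IsHomLift (𝟙 (𝒰.p.obj u)) (e.inv.toNatTrans.app u) := e.inv.isHomLift' u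
  have hα : 𝒴.p.IsHomLift (𝟙 (𝒰.p.obj u)) (α.toNatTrans.app (i.obj u)) := α.isHomLift (i.w_obj u)
  let β : j.obj (G.obj u) ⟶ j.obj (G.obj u) :=
    e.hom.toNatTrans.app u ≫ α.toNatTrans.app (i.obj u) ≫ e.inv.toNatTrans.app u
  have hβ : 𝒴.p.IsHomLift (𝟙 (𝒰.p.obj u)) β := by
    have : 𝒴.p.IsHomLift (𝟙 (𝒰.p.obj u) ≫ 𝟙 (𝒰.p.obj u) ≫ 𝟙 (𝒰.p.obj u)) β := inferInstance
    simpa using this
  obtain ⟨γ, hγ⟩ := j.toFunctor.map_surjective β
  have hγl : 𝒱.p.IsHomLift (𝟙 (𝒰.p.obj u)) γ := by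
    have h0 : 𝒴.p.IsHomLift (𝟙 (𝒰.p.obj u)) (j.map γ) := by
      rw [show j.map γ = β from hγ]
      exact hβ
    exact (BasedFunctor.isHomLift_iff j (𝟙 (𝒰.p.obj u)) γ).1 h0
  have hset := Groth.Agent.S12787.result h𝒱 h𝒱r
  have hγid : γ = 𝟙 _ := by
    haveI := hset.2 (𝒰.p.obj u)
    let a : 𝒱.p.Fiber (𝒰.p.obj u) := ⟨G.obj u, hv⟩
    have h0 : (⟨γ, hγl⟩ : a ⟶ a) = ⟨𝟙 _, IsHomLift.id hv⟩ := Subsingleton.elim _ _
    exact congrArg Subtype.val h0
  have hβid : β = 𝟙 _ := by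
    rw [← hγ, hγid]
    exact j.toFunctor.map_id _
  obtain ⟨eh, heh⟩ : ∃ eh : j.obj (G.obj u) ⟶ F.obj (i.obj u), eh = e.hom.toNatTrans.app u :=
    ⟨_, rfl⟩
  obtain ⟨ei, hei⟩ : ∃ ei : F.obj (i.obj u) ⟶ j.obj (G.obj u), ei = e.inv.toNatTrans.app u :=
    ⟨_, rfl⟩
  obtain ⟨a, ha⟩ : ∃ a : F.obj (i.obj u) ⟶ F.obj (i.obj u), a = α.toNatTrans.app (i.obj u) :=
    ⟨_, rfl⟩
  have h1 : ei ≫ eh = 𝟙 (F.obj (i.obj u)) := by
    rw [hei, heh]
    exact congrArg (fun t => t.toNatTrans.app u) e.inv_hom_id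
  have h3 : eh ≫ a ≫ ei = 𝟙 (j.obj (G.obj u)) := by
    rw [heh, ha, hei]
    exact hβid
  rw [← ha]
  calc a = (ei ≫ eh) ≫ a ≫ (ei ≫ eh) := by rw [h1, Category.id_comp, Category.comp_id]
    _ = ei ≫ (eh ≫ a ≫ ei) ≫ eh := by simp only [Category.assoc]
    _ = 𝟙 _ := by rw [h3, Category.id_comp, h1]

/-- a functor representable by isomorphisms is essentially surjective. -/
theorem exists_iso_of_repByAlgSpWith_isomorphisms {𝒲 : AlgSt.Cat S} (h𝒳 : IsFibGrpd 𝒳.p)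
    (f : 𝒲 ⥤ᵇ 𝒳) (hf : RepByAlgSpWith (MorphismProperty.isomorphisms (AlgSp.Sp S)) f) (ξ : 𝒳.obj) :
    ∃ (ζ : 𝒲.obj), Nonempty (f.obj ζ ≅ ξ) := by
  obtain ⟨Y, θ, hθ⟩ := Groth.Agent.Helper19.YonLib.exists_chart_of_obj h𝒳 ξ rfl
  obtain ⟨Fs, e, he, hiso⟩ := hf (𝒳.p.obj ξ) Y
  have h1 : IsEquivOver (BasedFunctor.comp e (fpFst Y f)) := Groth.Agent.Helper19.GerbMono.isEquivOver_of_isIso_spMapOfOver _ hiso
  have h2 : IsEquivOver (fpFst Y f) := Groth.Agent.Helper19.GerbMono.isEquivOver_of_comp e _ he h1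
  haveI := IsEquivOver.isEquivalence h2
  let o : (fp Y f).obj := (fpFst Y f).toFunctor.objPreimage (Over.mk (𝟙 (𝒳.p.obj ξ)))
  let j : (fpFst Y f).obj o ≅ Over.mk (𝟙 (𝒳.p.obj ξ)) :=
    (fpFst Y f).toFunctor.objObjPreimageIso (Over.mk (𝟙 (𝒳.p.obj ξ)))
  exact ⟨o.obj.snd, ⟨o.obj.iso.symm ≪≫ Y.toFunctor.mapIso j ≪≫ θ⟩⟩

theorem etale_le_flat' : (@Etale : MorphismProperty Scheme.{u}) ≤ @Flat := fun _ _ f hf => by
  haveI : Etale f := hf
  infer_instance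

theorem etale_le_lfp' : (@Etale : MorphismProperty Scheme.{u}) ≤ @LocallyOfFinitePresentation :=
  fun _ _ f hf => by
    haveI : Etale f := hf
    infer_instance

/-- a Deligne–Mumford stack has unramified diagonal. -/
theorem isDMOver_of_isDM (h𝒴 : IsDM Scheme.fppfPrecoverage 𝒴) : IsDMMor (toSelf 𝒴) := by
  obtain ⟨halg, U, x, hx₁, hx₂⟩ := h𝒴
  have hf𝒴 : IsFibGrpd 𝒴.p := halg.isStack.1
  have het : RepByAlgSpWith (AlgSp.LocP @Etale) x :=
    repByAlgSpWith_mono (fun A T a h =>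
      Groth.Agent.Helper15.locP_etale_of_isEtaleMor (AlgSp.IsAlgSpace.yon_obj T) a h) hx₁
  have hflat : RepByAlgSpWith (AlgSp.LocP @Flat) x :=
    repByAlgSpWith_mono (fun A T a h => Groth.Agent.Helper15.locP_mono etale_le_flat' h) het
  have hlfp : RepByAlgSpWith (AlgSp.LocP @LocallyOfFinitePresentation) x :=
    repByAlgSpWith_mono (fun A T a h => Groth.Agent.Helper15.locP_mono etale_le_lfp' h) het
  have hunr : RepByAlgSpWith (AlgSp.LocP (@LocallyOfFiniteType ⊓ @FormallyUnramified)) x :=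
    repByAlgSpWith_mono (fun A T a h =>
      Groth.Agent.Helper15.locP_mono Groth.Agent.Helper15.etale_le_lft_unramified h) het
  exact Groth.Agent.Helper19.ProdCover.repByAlgSpWith_diag_of_atlas
    (stableAlg_locP Groth.Agent.Helper15.goodP_lft_unramified Groth.Agent.Helper16.AS.srcEtLoc_unramified)
    (compAlg_locP Groth.Agent.Helper15.goodP_lft_unramified Groth.Agent.Helper16.AS.srcEtLoc_unramified)
    Groth.Agent.Helper19.DiagCover.isLocalOnBase_fppf_unramified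
    hf𝒴 (isFibGrpd_selfOver (Over S)) (isFibGrpd_overCat U) (toSelf 𝒴) halg.diag x
    (Groth.Agent.Helper19.DescCover.repByAlgSpWith_fppfP x hflat hlfp hx₂) hunr
    (repByAlgSpWith_diag sectionEq_unramified _
      (Groth.Agent.Helper19.ProdCover.repByAlgSp1_to_selfOver (repByAlgSp_overCat U) _))

/-- the points of `𝒰` lie in the image of the locus where `α` is trivial. -/
theorem range_subset (h𝒴 : IsFibGrpd 𝒴.p) (F : 𝒳 ⥤ᵇ 𝒴) (α : F ⟶ F) (i : 𝒰 ⥤ᵇ 𝒳)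
    (h : ∀ u : 𝒰.obj, α.toNatTrans.app (i.obj u) = 𝟙 _) :
    Set.range (Points.map i) ⊆
      Set.range (Points.map (fpFst (endFunctor h𝒴 F α) (inertiaNeutral (toSelf 𝒴)))) := by
  rintro _ ⟨p, rfl⟩
  obtain ⟨q, rfl⟩ := Points.mk_surjective p
  let x : 𝒳.obj := i.obj q.obj
  have hx : α.toNatTrans.app x = 𝟙 _ := h q.obj
  let isoI : (endFunctor h𝒴 F α).obj x ≅ (inertiaNeutral (toSelf 𝒴)).obj (F.obj x) :=
    { hom := ⟨𝟙 (F.obj x), by
        change (autOf h𝒴 F α x).hom ≫ 𝟙 (F.obj x) = 𝟙 (F.obj x) ≫ 𝟙 (F.obj x)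
        rw [autOf_hom, hx]⟩
      inv := ⟨𝟙 (F.obj x), by
        change 𝟙 (F.obj x) ≫ 𝟙 (F.obj x) = 𝟙 (F.obj x) ≫ (autOf h𝒴 F α x).hom
        rw [autOf_hom, hx]⟩
      hom_inv_id := InertiaObj.hom_ext (Category.comp_id _)
      inv_hom_id := InertiaObj.hom_ext (Category.comp_id _) }
  have hl : (inertia (toSelf 𝒴)).p.IsHomLift (𝟙 (𝒳.p.obj x)) isoI.hom := by
    refine IsHomLift.of_fac (inertia (toSelf 𝒴)).p _ _ (F.w_obj x) (F.w_obj x) ?_
    change 𝟙 (𝒳.p.obj x) = eqToHom _ ≫ 𝒴.p.map (𝟙 (F.obj x)) ≫ eqToHom _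
    simp
  let o : (fp (endFunctor h𝒴 F α) (inertiaNeutral (toSelf 𝒴))).obj :=
    ⟨{ fst := x, snd := F.obj x, iso := isoI }, hl⟩
  let w : FPt (fp (endFunctor h𝒴 F α) (inertiaNeutral (toSelf 𝒴))) :=
    { K := q.K, str := q.str, obj := o, lies := (i.w_obj q.obj).trans q.lies }
  exact ⟨Points.mk w, rfl⟩

/-- S16338. -/
theorem main (h𝒳 : IsDM Scheme.fppfPrecoverage 𝒳) (h𝒴 : IsDM Scheme.fppfPrecoverage 𝒴)
    (hΔ : RepByAlgSpWith AlgSp.IsSeparatedMor (FibCat.diag (toSelf 𝒴)))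
    (F : 𝒳 ⥤ᵇ 𝒴) (i : 𝒰 ⥤ᵇ 𝒳)
    (hdense : Dense (Set.range (Points.map i)))
    (j : 𝒱 ⥤ᵇ 𝒴) (hj : IsOpenImm j) (h𝒱 : RepByAlgSp 𝒱)
    (G : 𝒰 ⥤ᵇ 𝒱) (e : BasedFunctor.comp G j ≅ BasedFunctor.comp i F)
    (α : F ⟶ F) : α = 𝟙 F := by
  have hf𝒳 : IsFibGrpd 𝒳.p := h𝒳.1.isStack.1
  have hf𝒴 : IsFibGrpd 𝒴.p := h𝒴.1.isStack.1
  have hself : IsFibGrpd (selfOver (Over S)).p := isFibGrpd_selfOver (Over S)
  have halgself : IsAlgStack Scheme.fppfPrecoverage (selfOver (Over S)) :=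
    Groth.Agent.Helper19.QcPts.isAlgStack_selfOver S
  have hf𝒱 : IsFibGrpd 𝒱.p := by
    obtain ⟨X, eX, heX⟩ := h𝒱
    exact Groth.Agent.Helper19.StackLib.isFibGrpd_of_equiv eX heX (Stk.isFibGrpd_ofPsh X.obj.obj)
  -- the neutral section is an open and closed immersion
  have hunr : IsDMMor (toSelf 𝒴) := isDMOver_of_isDM h𝒴
  have h1 := (Groth.Agent.Helper19.InertiaLib.unramified_inertia_iff (toSelf 𝒴) h𝒴.1 halgself).2 hunr
  have hopen : IsOpenImm (inertiaNeutral (toSelf 𝒴)) :=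
    (Groth.Agent.Helper19.InertiaLib.repByAlgSpWith_neutral_iff (toSelf 𝒴)).2
      (Groth.Agent.Helper19.InertiaLib.repByAlgSpWith_second_diag_of_inertia (toSelf 𝒴)
        Groth.Agent.Helper19.InertiaLib.sectionEqOf_unramified h1)
  have hclosed : IsClosedImm (inertiaNeutral (toSelf 𝒴)) :=
    ((Groth.Agent.Helper19.InertiaLib.tfae_separated (toSelf 𝒴) h𝒴.1 halgself).out 1 2).1 hΔ
  have hfI : IsFibGrpd (inertia (toSelf 𝒴)).p := by
    obtain ⟨G', hG', -, -⟩ := IsEquivOver.exists_inv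
      (Groth.Agent.Helper19.InertiaLib.isEquivOver_inertiaE (toSelf 𝒴))
    refine Groth.Agent.Helper19.StackLib.isFibGrpd_of_equiv G' hG' ?_
    exact Groth.Agent.S6401.result _ _ hf𝒴 hf𝒴 (Groth.Agent.S6401.result _ _ hf𝒴 hf𝒴 hself)
  have hfW : IsFibGrpd (fp (endFunctor hf𝒴 F α) (inertiaNeutral (toSelf 𝒴))).p :=
    Groth.Agent.S6401.result _ _ hf𝒳 hf𝒴 hfI
  have hπo : IsOpenImm (fpFst (endFunctor hf𝒴 F α) (inertiaNeutral (toSelf 𝒴))) :=
    repByAlgSpWith_fpFst _ _ hopen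
  have hπc : IsClosedImm (fpFst (endFunctor hf𝒴 F α) (inertiaNeutral (toSelf 𝒴))) :=
    repByAlgSpWith_fpFst _ _ hclosed
  -- surjectivity on points
  have hU : ∀ u : 𝒰.obj, α.toNatTrans.app (i.obj u) = 𝟙 _ :=
    app_eq_id_on_open hf𝒴 hf𝒱 h𝒱 F i j hj G e α
  have hcl := isClosed_range_map_of_isClosedImm hfW hf𝒳 _ hπc
  have hsub := range_subset hf𝒴 F α i hU
  have hsurj : IsSurjective (fpFst (endFunctor hf𝒴 F α) (inertiaNeutral (toSelf 𝒴))) := by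
    have h2 : closure (Set.range (Points.map i)) ⊆ _ := closure_minimal hsub hcl
    rw [hdense.closure_eq] at h2
    intro z
    exact h2 (Set.mem_univ z)
  -- hence representable by isomorphisms
  have hs' : RepByAlgSpWith AlgSp.IsSurjectiveMor
      (fpFst (endFunctor hf𝒴 F α) (inertiaNeutral (toSelf 𝒴))) :=
    repByAlgSpWith_of_isSurjective hfW hf𝒳 _ (RepByAlgSpWith.repByAlgSp1 hπo) hsurj
  have hboth := repByAlgSpWith_inf stableAlg_isSurjectiveMor hπo hs'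
  have hiso : RepByAlgSpWith (MorphismProperty.isomorphisms (AlgSp.Sp S))
      (fpFst (endFunctor hf𝒴 F α) (inertiaNeutral (toSelf 𝒴))) :=
    repByAlgSpWith_mono (fun A T a h => by
      haveI := Groth.Agent.Helper15.isIso_of_repWith_isOpenImmersion_surjective a h.1
        (Groth.Agent.Helper15.repWith_surjective_of_isSurjectiveMor a h.1.rep h.2)
      exact MorphismProperty.isomorphisms.infer_property a) hboth
  -- conclusion
  apply BasedNatTrans.ext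
  apply NatTrans.ext
  funext x
  obtain ⟨o, ⟨ψ⟩⟩ := exists_iso_of_repByAlgSpWith_isomorphisms hf𝒳 _ hiso x
  exact app_eq_id_of_iso F α ψ (app_eq_id_of_obj hf𝒴 F α o)

end main

end Groth.Agent.Helper19.EndTriv
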